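import Mathlib
import Groth.Agent.Lib.Helper16.Alg.NormalEtale

set_option autoImplicit false
set_option linter.style.haveILetI false
open TensorProduct
universe u

namespace Groth.Agent.Helper19.IntCl

open Groth.Agent.Helper16.NormalEtale

section general

variable (R T : Type u) [CommRing R] [IsDomain R] [IsIntegrallyClosed R] [CommRing T]
  [Algebra R T] (K : Type u) [Field K] [Algebra R K] [IsFractionRing R K]

/-- non-local version of helper16's `mem_range_of_isIntegral`. -/
theorem mem_range_of_isIntegral'
    (H : Function.Surjective (TensorProduct.toIntegralClosure R T K)) (x : T ⊗[R] K)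
    (hx : IsIntegral T x) : x ∈ Set.range (algebraMap T (T ⊗[R] K)) := by
  obtain ⟨z, hz⟩ := H ⟨x, hx⟩
  have key : ∀ z : T ⊗[R] integralClosure R K,
      ((TensorProduct.toIntegralClosure R T K z : integralClosure T (T ⊗[R] K)) : T ⊗[R] K) ∈
        Set.range (algebraMap T (T ⊗[R] K)) := by
    intro z
    induction z with
    | zero => exact ⟨0, by simp⟩
    | add a b ha hb =>
      obtain ⟨a', ha'⟩ := ha
      obtain ⟨b', hb'⟩ := hb
      refine ⟨a' + b', ?_⟩
      rw [map_add, map_add, ha', hb']
      rfl
    | tmul t y =>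
      have hy : (y : K) ∈ (⊥ : Subalgebra R K) := by
        rw [← IsIntegrallyClosed.integralClosure_eq_bot R K]
        exact y.2
      obtain ⟨r, hr⟩ := Algebra.mem_bot.mp hy
      refine ⟨r • t, ?_⟩
      have : ((TensorProduct.toIntegralClosure R T K (t ⊗ₜ y) : integralClosure T (T ⊗[R] K)) :
          T ⊗[R] K) = t ⊗ₜ (y : K) := by
        simp [TensorProduct.toIntegralClosure]
      rw [this, ← hr, Algebra.TensorProduct.algebraMap_apply, Algebra.algebraMap_self_apply,
        TensorProduct.smul_tmul, Algebra.algebraMap_eq_smul_one]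
  have := key z
  rw [hz] at this
  exact this

end general

/-- A von Neumann regular subring of a field is closed under inverses. -/
theorem inv_mem_of_vnr {F : Type*} [Field F] (S : Subring F)
    (h : ∀ a ∈ S, ∃ b ∈ S, a * a * b = a) {a : F} (ha : a ∈ S) : a⁻¹ ∈ S := by
  by_cases h0 : a = 0
  · rw [h0, inv_zero]; exact S.zero_mem
  · obtain ⟨b, hb, hab⟩ := h a ha
    have : a * b = 1 := by
      have h1 : a * (a * b) = a * 1 := by rw [mul_one, ← mul_assoc, hab]
      exact mul_left_cancel₀ h0 h1
    have : a⁻¹ = b := inv_eq_of_mul_eq_one_right this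
    rw [this]; exact hb

end Groth.Agent.Helper19.IntCl
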