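import Mathlib
import Groth.Agent.Lib.Helper19.IntCl.Basic

set_option autoImplicit false
set_option linter.style.haveILetI false
open TensorProduct
universe u

namespace Groth.Agent.Helper19.IntCl

open Groth.Agent.Helper16.NormalEtale

section key

variable (R E F K : Type u) [CommRing R] [IsDomain R] [IsIntegrallyClosed R]
  [CommRing E] [Algebra R E] [Algebra.Etale R E]
  [Field F] [Algebra R F]
  [Field K] [Algebra R K] [IsFractionRing R K] [Algebra K F] [IsScalarTower R K F]

theorem vnr_EK : VNR (E ⊗[R] K) := by
  have hv1 : VNR (K ⊗[R] E) := vnr_of_etale_field K (K ⊗[R] E)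
  exact hv1.of_ringEquiv (Algebra.TensorProduct.comm R K E).toRingEquiv

theorem noeth_EK : IsNoetherianRing (E ⊗[R] K) := by
  haveI : Algebra.Etale K (K ⊗[R] E) := inferInstance
  haveI : Algebra.FiniteType K (K ⊗[R] E) := inferInstance
  haveI : IsNoetherianRing (K ⊗[R] E) := Algebra.FiniteType.isNoetherianRing K (K ⊗[R] E)
  exact isNoetherianRing_of_ringEquiv (K ⊗[R] E) (Algebra.TensorProduct.comm R K E).toRingEquiv

theorem inj_EK : Function.Injective (algebraMap E (E ⊗[R] K)) := by
  haveI : Algebra.Smooth R E := inferInstance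
  haveI : Module.Flat R E := inferInstance
  exact Algebra.TensorProduct.includeLeft_injective (S := E) (IsFractionRing.injective R K)

theorem int_EK (z : E ⊗[R] K) (hz : IsIntegral E z) : ∃ x : E, algebraMap E (E ⊗[R] K) x = z := by
  haveI : Algebra.Smooth R E := inferInstance
  have H : Function.Bijective (TensorProduct.toIntegralClosure R E K) :=
    TensorProduct.toIntegralClosure_bijective_of_smooth
  exact mem_range_of_isIntegral' R E K H.surjective z hz

variable {R E F K}

/-- the product map -/
noncomputable def psiK (ψ : E →ₐ[R] F) : E ⊗[R] K →ₐ[R] F :=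
  Algebra.TensorProduct.productMap ψ (IsScalarTower.toAlgHom R K F)

theorem psiK_algebraMap (ψ : E →ₐ[R] F) (x : E) :
    psiK (K := K) ψ (algebraMap E (E ⊗[R] K) x) = ψ x := by
  rw [Algebra.TensorProduct.algebraMap_apply, Algebra.algebraMap_self_apply]
  unfold psiK
  rw [Algebra.TensorProduct.productMap_apply_tmul, map_one, mul_one]

theorem psiK_tmul (ψ : E →ₐ[R] F) (x : E) (k : K) :
    psiK (K := K) ψ (x ⊗ₜ k) = ψ x * algebraMap K F k := by
  unfold psiK
  rw [Algebra.TensorProduct.productMap_apply_tmul]
  rfl

end key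

end Groth.Agent.Helper19.IntCl
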