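import Mathlib
import Groth.Agent.Lib.Helper19.IntCl.Key

set_option autoImplicit false
set_option linter.style.haveILetI false
open TensorProduct
universe u

namespace Groth.Agent.Helper19.IntCl

open Groth.Agent.Helper16.NormalEtale

section key

variable {R E F K : Type u} [CommRing R] [IsDomain R] [IsIntegrallyClosed R]
  [CommRing E] [Algebra R E] [Algebra.Etale R E]
  [Field F] [Algebra R F]
  [Field K] [Algebra R K] [IsFractionRing R K] [Algebra K F] [IsScalarTower R K F]

theorem exists_idem (ψ : E →ₐ[R] F) (hsurj : Function.Surjective (psiK (K := K) ψ)) :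
    ∃ e₀ : E, IsIdempotentElem e₀ ∧ RingHom.ker ψ = Ideal.span {1 - e₀} ∧
      ∀ y : F, IsIntegral R y → ∃ x : E, ψ x = y := by
  haveI := noeth_EK R E K
  have hv := vnr_EK R E K
  obtain ⟨I, hI⟩ : ∃ I : Ideal (E ⊗[R] K), I = RingHom.ker (psiK (K := K) ψ) := ⟨_, rfl⟩
  have hfg : I.FG := IsNoetherian.noetherian I
  have hidem : IsIdempotentElem I := by
    apply le_antisymm Ideal.mul_le_right
    intro a ha
    obtain ⟨b, hb⟩ := hv a
    rw [← hb, mul_assoc]
    exact Ideal.mul_mem_mul ha (I.mul_mem_right b ha)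
  obtain ⟨e', he', hIe'⟩ := (Ideal.isIdempotentElem_iff_of_fg I hfg).mp hidem
  have he'I : e' ∈ I := by rw [hIe']; exact Ideal.mem_span_singleton_self e'
  have hψe' : psiK (K := K) ψ e' = 0 := by
    rw [hI] at he'I; exact he'I
  have he : IsIdempotentElem (1 - e') := he'.one_sub
  have hint : IsIntegral E (1 - e') := by
    refine ⟨Polynomial.X ^ 2 - Polynomial.X, Polynomial.monic_X_pow_sub
      (lt_of_le_of_lt Polynomial.degree_X_le (by norm_num)), ?_⟩
    simp [pow_two, he.eq]
  obtain ⟨e₀, he₀⟩ := int_EK R E K _ hint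
  have he₀idem : IsIdempotentElem e₀ := inj_EK R E K (by rw [map_mul, he₀]; exact he)
  have hmem : ∀ w ∈ I, w * (1 - e') = 0 := by
    intro w hw
    rw [hIe', Ideal.mem_span_singleton'] at hw
    obtain ⟨t, rfl⟩ := hw
    rw [mul_assoc, mul_sub, mul_one, he'.eq, sub_self, mul_zero]
  refine ⟨e₀, he₀idem, ?_, ?_⟩
  · apply le_antisymm
    · intro x hx
      have h1 : algebraMap E (E ⊗[R] K) x ∈ I := by
        rw [hI, RingHom.mem_ker, psiK_algebraMap]; exact hx
      have h2 := hmem _ h1
      rw [← he₀, ← map_mul] at h2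
      have h3 : x * e₀ = 0 := inj_EK R E K (by rw [h2, map_zero])
      rw [Ideal.mem_span_singleton']
      exact ⟨x, by rw [mul_sub, mul_one, h3, sub_zero]⟩
    · rw [Ideal.span_singleton_le_iff_mem, RingHom.mem_ker]
      have : ψ (1 - e₀) = psiK (K := K) ψ (algebraMap E (E ⊗[R] K) (1 - e₀)) :=
        (psiK_algebraMap (K := K) ψ _).symm
      rw [this, map_sub, map_one, he₀, sub_sub_cancel]; exact hψe'
  · intro y hy
    obtain ⟨z, hz⟩ := hsurj y
    obtain ⟨P, hPm, hPy⟩ := hy
    have hz' : psiK (K := K) ψ (z * (1 - e')) = y := by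
      rw [map_mul, map_sub, map_one, hψe', sub_zero, mul_one, hz]
    have hP : Polynomial.aeval (z * (1 - e')) P ∈ I := by
      rw [hI, RingHom.mem_ker]
      have := Polynomial.aeval_algHom_apply (psiK (K := K) ψ) (z * (1 - e')) P
      rw [← this, hz', Polynomial.aeval_def]; exact hPy
    have hroot : Polynomial.aeval (z * (1 - e')) (Polynomial.X * P) = 0 := by
      rw [map_mul, Polynomial.aeval_X]
      have := hmem _ hP
      rw [mul_assoc, mul_comm (1 - e'), this, mul_zero]
    have hintR : IsIntegral R (z * (1 - e')) :=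
      ⟨Polynomial.X * P, Polynomial.Monic.mul Polynomial.monic_X hPm, by
        rw [← Polynomial.aeval_def]; exact hroot⟩
    obtain ⟨x, hx⟩ := int_EK R E K _ hintR.tower_top
    exact ⟨x, by rw [← psiK_algebraMap (K := K), hx, hz']⟩

end key

end Groth.Agent.Helper19.IntCl
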