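import Mathlib
import Groth.Agent.Lib.Helper19.IntCl.Idem

set_option autoImplicit false
set_option linter.style.haveILetI false
open TensorProduct
universe u

namespace Groth.Agent.Helper19.IntCl

open Groth.Agent.Helper16.NormalEtale

section key

variable {R E F K : Type u} [CommRing R] [IsDomain R] [IsIntegrallyClosed R]
  [CommRing E] [Algebra R E] [Algebra.Etale R E] [Algebra.IsIntegral R E]
  [Field F] [Algebra R F]
  [Field K] [Algebra R K] [IsFractionRing R K] [Algebra K F] [IsScalarTower R K F]

theorem exists_preimage_of_isIntegral (ψ : E →ₐ[R] F)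
    (hsurj : Function.Surjective (psiK (K := K) ψ)) (y : F) (hy : IsIntegral R y) :
    ∃ x : E, ψ x = y := by
  obtain ⟨e₀, -, -, h⟩ := exists_idem (K := K) ψ hsurj
  exact h y hy

theorem etale_integralClosure (ψ : E →ₐ[R] F)
    (hsurj : Function.Surjective (psiK (K := K) ψ)) :
    Algebra.Etale R (integralClosure R F) := by
  obtain ⟨e₀, he₀, hker, h⟩ := exists_idem (K := K) ψ hsurj
  have hmem : ∀ x, ψ x ∈ integralClosure R F :=
    fun x => (Algebra.IsIntegral.isIntegral (R := R) x).map ψ
  let ψ' : E →ₐ[R] (integralClosure R F) := ψ.codRestrict (integralClosure R F) hmem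
  letI : Algebra E (integralClosure R F) := ψ'.toRingHom.toAlgebra
  haveI : IsScalarTower R E (integralClosure R F) :=
    IsScalarTower.of_algebraMap_eq (fun r => (ψ'.commutes r).symm)
  have hs : Function.Surjective (algebraMap E (integralClosure R F)) := by
    rintro ⟨y, hy⟩
    obtain ⟨x, hx⟩ := h y hy
    exact ⟨x, Subtype.ext hx⟩
  have hk : RingHom.ker (algebraMap E (integralClosure R F)) = Ideal.span {1 - e₀} := by
    rw [← hker]
    ext x
    rw [RingHom.mem_ker, RingHom.mem_ker]
    constructor
    · intro hx; exact congrArg Subtype.val hx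
    · intro hx; exact Subtype.ext hx
  haveI : IsLocalization.Away e₀ (integralClosure R F) :=
    IsLocalization.away_of_isIdempotentElem he₀ hk hs
  haveI : Algebra.Etale E (integralClosure R F) := Algebra.Etale.of_isLocalizationAway e₀
  exact Algebra.Etale.comp R E (integralClosure R F)

end key

end Groth.Agent.Helper19.IntCl
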