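import Mathlib
import Groth.Agent.Lib.Helper19.IntCl.Etale

set_option autoImplicit false
set_option linter.style.haveILetI false
open TensorProduct
universe u

namespace Groth.Agent.Helper19.IntCl

open Groth.Agent.Helper16.NormalEtale

section compositum

variable (A A' L L₁ : Type u) [CommRing A] [IsDomain A]
    [IsIntegrallyClosed A] [CommRing A'] [IsDomain A'] [IsIntegrallyClosed A'] [Algebra A A']
    [Field L] [Algebra A L]
    [Field L₁] [Algebra A' L₁] [Algebra L L₁] [Algebra A L₁] [IsScalarTower A A' L₁]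
    [IsScalarTower A L L₁]

/-- the canonical map `A' ⊗ C → L₁`. -/
noncomputable def psi : A' ⊗[A] (integralClosure A L) →ₐ[A'] L₁ :=
  Algebra.TensorProduct.lift (Algebra.ofId A' L₁)
    ((IsScalarTower.toAlgHom A L L₁).comp (integralClosure A L).val) (fun _ _ => Commute.all _ _)

theorem psi_tmul (a' : A') (c : integralClosure A L) :
    psi A A' L L₁ (a' ⊗ₜ c) = algebraMap A' L₁ a' * algebraMap L L₁ (c : L) := by
  unfold psi
  rw [Algebra.TensorProduct.lift_tmul]
  rfl

variable [Algebra.IsAlgebraic A L] [Algebra.Etale A ↥(integralClosure A L)]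

theorem psiK_surjective (hinj : Function.Injective (algebraMap A L))
    [Algebra (FractionRing A') L₁] [IsScalarTower A' (FractionRing A') L₁]
    (hgen : Subfield.closure (Set.range (algebraMap A' L₁) ∪ Set.range (algebraMap L L₁)) = ⊤) :
    Function.Surjective (psiK (K := FractionRing A') (psi A A' L L₁)) := by
  obtain ⟨ψK, hψK⟩ : ∃ f, f = psiK (K := FractionRing A') (psi A A' L L₁) := ⟨_, rfl⟩
  rw [← hψK]
  have hv := vnr_EK A' (A' ⊗[A] (integralClosure A L)) (FractionRing A')
  have hvr : ∀ a ∈ ψK.range.toSubring, ∃ b ∈ ψK.range.toSubring, a * a * b = a := by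
    rintro _ ⟨z, rfl⟩
    obtain ⟨w, hw⟩ := hv z
    refine ⟨ψK w, ⟨w, rfl⟩, ?_⟩
    change ψK z * ψK z * ψK w = ψK z
    rw [← map_mul, ← map_mul, hw]
  let S : Subfield L₁ :=
    { toSubring := ψK.range.toSubring
      inv_mem' := fun x hx => inv_mem_of_vnr ψK.range.toSubring hvr hx }
  have hA' : ∀ a' : A', algebraMap A' L₁ a' ∈ S := fun a' => ⟨algebraMap A' _ a', ψK.commutes a'⟩
  have hC : ∀ c : integralClosure A L, algebraMap L L₁ (c : L) ∈ S := by
    intro c
    refine ⟨((1 : A') ⊗ₜ[A] c) ⊗ₜ[A'] (1 : FractionRing A'), ?_⟩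
    change ψK _ = _
    rw [hψK, psiK_tmul, psi_tmul, map_one, map_one, one_mul, mul_one]
  have hle : Subfield.closure (Set.range (algebraMap A' L₁) ∪ Set.range (algebraMap L L₁)) ≤ S := by
    rw [Subfield.closure_le]
    rintro _ (⟨a', rfl⟩ | ⟨l, rfl⟩)
    · exact hA' a'
    · obtain ⟨y, hy0, hy⟩ := (Algebra.IsAlgebraic.isAlgebraic (R := A) l).exists_integral_multiple
      have h1 := hC ⟨y • l, hy⟩
      have h2 : algebraMap L L₁ (y • l) = algebraMap A L₁ y * algebraMap L L₁ l := by
        rw [Algebra.smul_def, map_mul, ← IsScalarTower.algebraMap_apply A L L₁]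
      have h3 : algebraMap A L₁ y ∈ S := by
        rw [IsScalarTower.algebraMap_apply A A' L₁]; exact hA' _
      have h4 : algebraMap A L₁ y ≠ 0 := by
        rw [IsScalarTower.algebraMap_apply A L L₁]
        intro h0
        have := (algebraMap L L₁).injective (h0.trans (map_zero _).symm)
        exact hy0 (hinj (this.trans (map_zero _).symm))
      have h5 : algebraMap L L₁ l = (algebraMap A L₁ y)⁻¹ * algebraMap L L₁ (y • l) := by
        rw [h2, ← mul_assoc, inv_mul_cancel₀ h4, one_mul]
      rw [SetLike.mem_coe, h5]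
      exact S.mul_mem (S.inv_mem h3) h1
  rw [hgen] at hle
  intro y
  obtain ⟨z, hz⟩ := hle (Subfield.mem_top y)
  exact ⟨z, hz⟩

theorem main (hinj : Function.Injective (algebraMap A L))
    (hinj' : Function.Injective (algebraMap A' L₁))
    (hgen : Subfield.closure (Set.range (algebraMap A' L₁) ∪ Set.range (algebraMap L L₁)) = ⊤) :
    Algebra.Etale A' ↥(integralClosure A' L₁) ∧
      integralClosure A' L₁ = Algebra.adjoin A' ((algebraMap L L₁) '' {x : L | IsIntegral A x}) := by
  haveI : FaithfulSMul A' L₁ := (faithfulSMul_iff_algebraMap_injective A' L₁).mpr hinj'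
  letI : Algebra (FractionRing A') L₁ := FractionRing.liftAlgebra A' L₁
  haveI : IsScalarTower A' (FractionRing A') L₁ := FractionRing.isScalarTower_liftAlgebra A' L₁
  haveI : Algebra.IsIntegral A (integralClosure A L) := inferInstance
  haveI : Algebra.FiniteType A (integralClosure A L) := inferInstance
  haveI : Module.Finite A (integralClosure A L) := Algebra.IsIntegral.finite
  haveI : Module.Finite A' (A' ⊗[A] integralClosure A L) := Module.Finite.base_change A A' _
  haveI : Algebra.IsIntegral A' (A' ⊗[A] integralClosure A L) := Algebra.IsIntegral.of_finite _ _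
  have hsurj := psiK_surjective A A' L L₁ hinj hgen
  refine ⟨etale_integralClosure (K := FractionRing A') (psi A A' L L₁) hsurj, ?_⟩
  apply le_antisymm
  · intro y hy
    obtain ⟨x, rfl⟩ := exists_preimage_of_isIntegral (K := FractionRing A') (psi A A' L L₁) hsurj y hy
    induction x with
    | zero => rw [map_zero]; exact Subalgebra.zero_mem _
    | add a b ha hb =>
      rw [map_add]
      exact Subalgebra.add_mem _ (ha ((Algebra.IsIntegral.isIntegral (R := A') a).map _))
        (hb ((Algebra.IsIntegral.isIntegral (R := A') b).map _))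
    | tmul a' c =>
      rw [psi_tmul, ← Algebra.smul_def]
      have hc : algebraMap L L₁ (c : L) ∈ (algebraMap L L₁) '' {x : L | IsIntegral A x} :=
        ⟨(c : L), c.2, rfl⟩
      exact Subalgebra.smul_mem _ (Algebra.subset_adjoin hc) a'
  · rw [Algebra.adjoin_le_iff]
    rintro _ ⟨l, hl, rfl⟩
    have h1 : IsIntegral A (algebraMap L L₁ l) :=
      IsIntegral.map (IsScalarTower.toAlgHom A L L₁) hl
    exact h1.tower_top

end compositum

end Groth.Agent.Helper19.IntCl
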